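import Mathlib.GroupTheory.QuotientGroup.Basic
import Mathlib.GroupTheory.OrderOfElement
import Mathlib.GroupTheory.Index
import Mathlib.Algebra.Group.Subgroup.Pointwise
import Mathlib.Data.Nat.Factorization.Basic
import Mathlib.Tactic

/-!
A finite group with a unique involution `u` and a symmetric group `S₃` of automorphisms,
all of whose non-trivial members fix only `1` and `u`, has order `2` or `8`.
This is the group-theoretic half of Jordan's theorem on sharply 4-transitive groups.
-/

set_option autoImplicit false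

namespace Cfsg.Agent.Jordan

section Fpf

variable {Q : Type*} [Group Q] [Finite Q] (τ : Q →* Q) (h3 : ∀ x, τ (τ (τ x)) = x)
  (hf : ∀ x, τ x = x → x = 1)

include hf in
theorem twist_surjective : Function.Surjective fun k : Q => k⁻¹ * τ k := by
  apply Finite.injective_iff_surjective.1
  intro k l h
  simp only at h
  have : τ (k * l⁻¹) = k * l⁻¹ := by
    rw [map_mul, map_inv]
    have h' : τ k = k * (l⁻¹ * τ l) := by rw [← h]; group
    rw [h']; group
  exact mul_inv_eq_one.1 (hf _ this)

include h3 hf in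
theorem mul_apply_apply (x : Q) : x * τ x * τ (τ x) = 1 := by
  obtain ⟨k, rfl⟩ := twist_surjective τ hf x
  simp only [map_mul, map_inv, h3]
  group

include h3 hf in
theorem commute_apply (x : Q) : Commute x (τ x) := by
  have h1 := mul_apply_apply τ h3 hf x
  have h2 := congrArg (fun z => z⁻¹) (mul_apply_apply τ h3 hf x⁻¹)
  simp only [map_inv, mul_inv_rev, inv_inv, inv_one] at h2
  have h1' : τ (τ x) * (x * τ x) = 1 := mul_eq_one_comm.1 h1
  exact (mul_left_cancel (h1'.trans h2.symm))

include h3 hf in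
theorem commute_conj_apply (x g : Q) : Commute x (g * τ x * g⁻¹) := by
  obtain ⟨k, hk⟩ := twist_surjective τ hf g
  have h := commute_apply τ h3 hf (k * x * k⁻¹)
  have h' : Commute (k⁻¹ * (k * x * k⁻¹) * k) (k⁻¹ * τ (k * x * k⁻¹) * k) := by
    have := h.map (MulAut.conj k⁻¹).toMonoidHom
    simpa using this
  simp only at hk
  rw [← hk]
  have e1 : k⁻¹ * (k * x * k⁻¹) * k = x := by group
  have e2 : k⁻¹ * τ (k * x * k⁻¹) * k = k⁻¹ * τ k * τ x * (k⁻¹ * τ k)⁻¹ := by
    rw [map_mul, map_mul, map_inv]; group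
  rw [e1, e2] at h'
  exact h'

include h3 hf in
theorem commute_conj (x g : Q) : Commute x (g * x * g⁻¹) := by
  have a := commute_conj_apply τ h3 hf x g
  have b := commute_conj_apply (τ.comp τ) (fun y => by simp [h3]) (fun y hy => hf y (by
    have hy' : τ (τ y) = y := hy
    calc τ y = τ (τ (τ y)) := by rw [hy']
      _ = y := h3 y)) x g
  have e : g * x * g⁻¹ = ((g * τ x * g⁻¹) * (g * (τ (τ x)) * g⁻¹))⁻¹ := by
    have := mul_apply_apply τ h3 hf x
    rw [mul_assoc] at this
    calc g * x * g⁻¹ = g * (τ x * τ (τ x))⁻¹ * g⁻¹ := by rw [← eq_inv_of_mul_eq_one_left this]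
      _ = _ := by group
  rw [e]
  exact (a.mul_right b).inv_right

include h3 hf in
theorem odd_orderOf_mul {x y : Q} (hx : Odd (orderOf x)) (hy : Odd (orderOf y)) :
    Odd (orderOf (x * y)) := by
  set A := Subgroup.normalClosure ({x} : Set Q) with hA
  have hS : ∀ s ∈ Group.conjugatesOfSet ({x} : Set Q), ∀ t ∈ Group.conjugatesOfSet ({x} : Set Q),
      Commute s t := by
    intro s hs t ht
    simp only [Group.mem_conjugatesOfSet_iff, Set.mem_singleton_iff, exists_eq_left, isConj_iff] at hs ht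
    obtain ⟨a, rfl⟩ := hs
    obtain ⟨b, rfl⟩ := ht
    have h := (commute_conj τ h3 hf x (a⁻¹ * b)).map (MulAut.conj a).toMonoidHom
    simp only [MulEquiv.toMonoidHom_eq_coe, MonoidHom.coe_coe, MulAut.conj_apply] at h
    convert h using 1
    group
  have hc1 : A ≤ Subgroup.centralizer (Group.conjugatesOfSet ({x} : Set Q)) :=
    (Subgroup.closure_le _).2 fun s hs => Subgroup.mem_centralizer_iff.2 fun t ht => hS t ht s hs
  have hc : ∀ s ∈ A, ∀ t ∈ A, Commute s t := by
    intro s hs
    have hle : A ≤ Subgroup.centralizer ({s} : Set Q) :=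
      (Subgroup.closure_le _).2 fun t ht => Subgroup.mem_centralizer_iff.2 fun r hr => by
        rw [Set.mem_singleton_iff.1 hr]
        exact (Subgroup.mem_centralizer_iff.1 (hc1 hs) t ht).symm
    exact fun t ht => Subgroup.mem_centralizer_iff.1 (hle ht) s rfl
  have hpow : ∀ z ∈ A, z ^ orderOf x = 1 := by
    intro z hz
    have : z ∈ Subgroup.closure (Group.conjugatesOfSet ({x} : Set Q)) := hz
    induction this using Subgroup.closure_induction with
    | mem s hs =>
      simp only [Group.mem_conjugatesOfSet_iff, Set.mem_singleton_iff, exists_eq_left, isConj_iff] at hs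
      obtain ⟨a, rfl⟩ := hs
      rw [conj_pow, pow_orderOf_eq_one]; group
    | one => simp
    | mul s t hs ht ihs iht =>
      rw [Commute.mul_pow (hc s hs t ht), ihs hs, iht ht, one_mul]
    | inv s hs ihs => rw [inv_pow, ihs hs, inv_one]
  have hmem : (x * y) ^ orderOf y ∈ A := by
    haveI : A.Normal := Subgroup.normalClosure_normal
    have hxA : (x : Q ⧸ A) = 1 :=
      (QuotientGroup.eq_one_iff x).2 (Subgroup.subset_normalClosure (Set.mem_singleton x))
    rw [← QuotientGroup.eq_one_iff, QuotientGroup.mk_pow, QuotientGroup.mk_mul, hxA, one_mul,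
      ← QuotientGroup.mk_pow, pow_orderOf_eq_one]
    rfl
  have h1 : (x * y) ^ (orderOf y * orderOf x) = 1 := by rw [pow_mul, hpow _ hmem]
  exact Odd.of_dvd_nat (hy.mul hx) (orderOf_dvd_of_pow_eq_one h1)

end Fpf

theorem card_two_or_eight {K : Type*} [Group K] [Finite K] (u : K) (hu : orderOf u = 2)
    (huniq : ∀ x : K, orderOf x = 2 → x = u) (θ σ : K ≃* K) (hθ2 : ∀ x, θ (θ x) = x)
    (hσ3 : ∀ x, σ (σ (σ x)) = x) (hrel : ∀ x, θ (σ (θ x)) = σ (σ x))
    (hθ : ∀ x, θ x = x → x = 1 ∨ x = u) (hσ : ∀ x, σ x = x → x = 1 ∨ x = u) :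
    Nat.card K = 2 ∨ Nat.card K = 8 := by
  classical
  have hu2 : u * u = 1 := by rw [← sq, ← hu, pow_orderOf_eq_one]
  have hu1 : u ≠ 1 := fun h => by rw [h, orderOf_one] at hu; omega
  have hcen : ∀ g, Commute g u := by
    intro g
    have h : g * u * g⁻¹ = u := huniq _ (by
      rw [← MulAut.conj_apply, (MulAut.conj g).orderOf_eq, hu])
    exact mul_inv_eq_iff_eq_mul.1 h
  have hθu : θ u = u := huniq _ (by rw [θ.orderOf_eq, hu])
  have hσu : σ u = u := huniq _ (by rw [σ.orderOf_eq, hu])
  set Z := Subgroup.zpowers u with hZ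
  have memZ : ∀ x, x ∈ Z ↔ x = 1 ∨ x = u := by
    intro x
    rw [hZ, Subgroup.mem_zpowers_iff]
    constructor
    · rintro ⟨k, rfl⟩
      rw [← zpow_mod_orderOf, hu]
      rcases Int.emod_two_eq_zero_or_one k with h | h <;> simp [h]
    · rintro (rfl | rfl)
      exacts [⟨0, by simp⟩, ⟨1, by simp⟩]
  haveI hZn : Z.Normal := ⟨fun z hz g => by
    rcases (memZ z).1 hz with rfl | rfl
    · simp
    · rw [(hcen g).eq]; simpa using hz⟩
  have hsq : ∀ x : K, x * x = 1 → x = 1 ∨ x = u := by
    intro x hx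
    by_cases h : x = 1
    · exact Or.inl h
    · exact Or.inr (huniq x (orderOf_eq_prime (by rw [sq, hx]) h))
  let π := QuotientGroup.mk' Z
  have hπ : ∀ x, π x = 1 ↔ x = 1 ∨ x = u := fun x => (QuotientGroup.eq_one_iff x).trans (memZ x)
  have hπs : Function.Surjective π := QuotientGroup.mk'_surjective Z
  have hlift : ∀ (f : K ≃* K), f u = u → Z ≤ Z.comap f.toMonoidHom := by
    intro f hf x hx
    show f x ∈ Z
    rcases (memZ x).1 hx with rfl | rfl
    · simp
    · rw [hf]; exact hx
  let τ : K ⧸ Z →* K ⧸ Z := QuotientGroup.map Z Z σ.toMonoidHom (hlift σ hσu)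
  let η : K ⧸ Z →* K ⧸ Z := QuotientGroup.map Z Z θ.toMonoidHom (hlift θ hθu)
  have hτπ : ∀ x, τ (π x) = π (σ x) := fun x => rfl
  have hηπ : ∀ x, η (π x) = π (θ x) := fun x => rfl
  have hπeq : ∀ x y, π x = π y → ∃ z, (z = 1 ∨ z = u) ∧ x = y * z := by
    intro x y h
    refine ⟨y⁻¹ * x, (hπ _).1 ?_, by group⟩
    rw [map_mul, map_inv, h, inv_mul_cancel]
  have h3 : ∀ q, τ (τ (τ q)) = q := by
    intro q; obtain ⟨x, rfl⟩ := hπs q; simp only [hτπ, hσ3]
  have hη2 : ∀ q, η (η q) = q := by
    intro q; obtain ⟨x, rfl⟩ := hπs q; simp only [hηπ, hθ2]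
  have hηrel : ∀ q, η (τ (η q)) = τ (τ q) := by
    intro q; obtain ⟨x, rfl⟩ := hπs q; simp only [hτπ, hηπ, hrel]
  have hf : ∀ q, τ q = q → q = 1 := by
    intro q hq
    obtain ⟨x, rfl⟩ := hπs q
    obtain ⟨z, hz, e⟩ := hπeq _ _ (hτπ x ▸ hq)
    rcases hz with hz | hz <;> rw [hz] at e
    · exact (hπ x).2 (hσ x (by simpa using e))
    · exfalso
      have e1 : σ (σ x) = x := by rw [e, map_mul, e, hσu, mul_assoc, hu2, mul_one]
      have e3 := hσ3 x
      rw [e1, e] at e3
      exact hu1 (mul_eq_left.1 e3)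
  -- no non-trivial elements of odd order
  have hoddfix : ∀ q, Odd (orderOf q) → η q = q → q = 1 := by
    intro q ho hq
    obtain ⟨x, rfl⟩ := hπs q
    obtain ⟨z, hz, e⟩ := hπeq _ _ (hηπ x ▸ hq)
    rcases hz with rfl | rfl
    · exact (hπ x).2 (hθ x (by simpa using e))
    · have e2 : θ (x * x) = x * x := by
        rw [map_mul, e]
        calc x * z * (x * z) = x * (z * x) * z := by group
          _ = x * (x * z) * z := by rw [(hcen x).eq]
          _ = x * x * (z * z) := by group
          _ = x * x := by rw [hu2, mul_one]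
      have h2 : π x ^ 2 = 1 := by
        rw [sq, ← map_mul]; exact (hπ _).2 (hθ _ e2)
      have hd : orderOf (π x) ∣ 2 := orderOf_dvd_of_pow_eq_one h2
      rcases (Nat.dvd_prime Nat.prime_two).1 hd with h | h
      · exact orderOf_eq_one_iff.1 h
      · rw [h] at ho; exact absurd ho (by decide)
  have hηinj : Function.Injective η := fun a b h => by rw [← hη2 a, h, hη2]
  have hτinj : Function.Injective τ := fun a b h => by rw [← h3 a, h, h3]
  have hinv : ∀ q, Odd (orderOf q) → η q = q⁻¹ := by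
    let f : {q : K ⧸ Z // Odd (orderOf q)} → {q : K ⧸ Z // Odd (orderOf q)} := fun q =>
      ⟨q.1⁻¹ * η q.1, odd_orderOf_mul τ h3 hf (by rw [orderOf_inv]; exact q.2)
        (by rw [orderOf_injective η hηinj]; exact q.2)⟩
    have hinj : Function.Injective f := by
      intro a b h
      have h' : a.1⁻¹ * η a.1 = b.1⁻¹ * η b.1 := congrArg Subtype.val h
      have : η (a.1 * b.1⁻¹) = a.1 * b.1⁻¹ := by
        rw [map_mul, map_inv]
        have e : η a.1 = a.1 * (b.1⁻¹ * η b.1) := by rw [← h']; group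
        rw [e]; group
      exact Subtype.ext (mul_inv_eq_one.1 (hoddfix _ (odd_orderOf_mul τ h3 hf a.2
        (by rw [orderOf_inv]; exact b.2)) this))
    intro q hq
    obtain ⟨w, hw⟩ := (Finite.injective_iff_surjective.1 hinj) ⟨q, hq⟩
    have hw' : w.1⁻¹ * η w.1 = q := congrArg Subtype.val hw
    rw [← hw', map_mul, map_inv, hη2]; group
  have hodd : ∀ q : K ⧸ Z, Odd (orderOf q) → q = 1 := by
    intro q hq
    have e := hηrel q
    rw [hinv q hq, map_inv, map_inv, hinv _ (by rw [orderOf_injective τ hτinj]; exact hq),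
      inv_inv] at e
    exact hf q (hτinj e.symm)
  -- no elements of order four
  have h4 : ∀ q : K ⧸ Z, q ^ 4 = 1 → q ^ 2 = 1 := by
    intro q hq
    by_contra h2
    obtain ⟨s, rfl⟩ := hπs q
    have hs4 : s * s * (s * s) = u := by
      have : π (s * s * (s * s)) = 1 := by
        rw [map_mul, map_mul]; simpa [pow_succ, mul_assoc] using hq
      rcases (hπ _).1 this with h | h
      · exact absurd (by rw [sq, ← map_mul]; exact (hπ _).2 (hsq _ h)) h2
      · exact h
    set t := σ s with ht
    have ht4 : t * t * (t * t) = u := by rw [ht, ← map_mul, ← map_mul, hs4, hσu]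
    obtain ⟨z, hz, e⟩ := hπeq (s * t) (t * s) (by
      rw [map_mul, map_mul, ← hτπ]; exact commute_apply τ h3 hf (π s))
    have hzc : ∀ g, Commute g z := by
      rcases hz with rfl | rfl
      exacts [fun g => Commute.one_right g, hcen]
    have hzz : z * z = 1 := by rcases hz with rfl | rfl <;> simp [hu2]
    have c1 : Commute s (t * t) := by
      show s * (t * t) = t * t * s
      calc s * (t * t) = s * t * t := (mul_assoc _ _ _).symm
        _ = t * s * z * t := by rw [e]
        _ = t * (s * t) * z := by rw [mul_assoc, (hzc t).symm.eq]; group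
        _ = t * (t * s * z) * z := by rw [e]
        _ = t * t * s * (z * z) := by group
        _ = t * t * s := by rw [hzz, mul_one]
    have c2 : Commute (s * s) (t * t) := c1.mul_left c1
    have key : s * s * (t * t) * (s * s * (t * t)) = 1 := by
      calc s * s * (t * t) * (s * s * (t * t)) = s * s * ((t * t) * (s * s)) * (t * t) := by group
        _ = s * s * ((s * s) * (t * t)) * (t * t) := by rw [c2.eq]
        _ = (s * s * (s * s)) * (t * t * (t * t)) := by group
        _ = 1 := by rw [hs4, ht4, hu2]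
    have he := (hπ _).2 (hsq _ key)
    rw [map_mul, map_mul, map_mul, ht, ← hτπ, ← map_mul τ, ← sq] at he
    apply h2
    apply hf
    have hinv2 : (π s ^ 2)⁻¹ = π s ^ 2 := inv_eq_of_mul_eq_one_right (by rw [← pow_add]; exact hq)
    rw [eq_inv_of_mul_eq_one_right he, hinv2]
  have hexp : ∀ q : K ⧸ Z, q ^ 2 = 1 := by
    intro q
    obtain ⟨k, m, hm, hkm⟩ := Nat.exists_eq_two_pow_mul_odd (orderOf_pos q).ne'
    have ho : orderOf (q ^ (2 ^ k)) = m := by
      rw [orderOf_pow' _ (pow_ne_zero _ (by norm_num)), hkm, Nat.gcd_mul_right_left,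
        Nat.mul_div_cancel_left _ (by positivity)]
    have hq1 : q ^ (2 ^ k) = 1 := hodd _ (ho ▸ hm)
    clear hkm ho hm m
    induction k with
    | zero => rw [pow_zero, pow_one] at hq1; simp [hq1]
    | succ k ih =>
      rcases k with _ | k
      · simpa using hq1
      · apply ih
        have := h4 (q ^ (2 ^ k)) (by rw [← pow_mul]; rw [show 2 ^ k * 4 = 2 ^ (k + 1 + 1) by ring]; exact hq1)
        rwa [← pow_mul, ← pow_succ] at this
  -- lifts of non-trivial elements square to `u` and anticommute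
  have hsqu : ∀ x, π x ≠ 1 → x * x = u := by
    intro x hx
    rcases (hπ (x * x)).1 (by rw [map_mul, ← sq, hexp]) with h | h
    · exact absurd ((hπ x).2 (hsq x h)) hx
    · exact h
  have hanti : ∀ x y, π x ≠ 1 → π y ≠ 1 → π (x * y) ≠ 1 → y * x = x * y * u := by
    intro x y hx hy hxy
    have h1 := hsqu x hx; have h2 := hsqu y hy; have h3 := hsqu _ hxy
    have ex : x⁻¹ = x * u := inv_eq_of_mul_eq_one_right (by rw [← mul_assoc, h1, hu2])
    have ey : y⁻¹ = y * u := inv_eq_of_mul_eq_one_right (by rw [← mul_assoc, h2, hu2])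
    have e : y * x = x⁻¹ * u * y⁻¹ := by
      calc y * x = x⁻¹ * (x * y * (x * y)) * y⁻¹ := by group
        _ = x⁻¹ * u * y⁻¹ := by rw [h3]
    rw [e, ex, ey]
    calc x * u * u * (y * u) = x * (u * u) * (y * u) := by group
      _ = x * y * u := by rw [hu2]; group
  have hsmall : ∀ a b : K ⧸ Z, a ≠ 1 → b ≠ 1 → b ≠ a → ∀ c, c = 1 ∨ c = a ∨ c = b ∨ c = a * b := by
    intro a b ha hb hba c
    by_contra hc
    simp only [not_or] at hc
    obtain ⟨hc1, hca, hcb, hcab⟩ := hc
    obtain ⟨x, rfl⟩ := hπs a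
    obtain ⟨y, rfl⟩ := hπs b
    obtain ⟨z, rfl⟩ := hπs c
    have hinv' : ∀ q : K ⧸ Z, q⁻¹ = q := fun q =>
      inv_eq_of_mul_eq_one_right (by rw [← sq, hexp])
    have ne_mul : ∀ p q : K ⧸ Z, p ≠ q → p * q ≠ 1 := fun p q hpq h =>
      hpq (by rw [eq_inv_of_mul_eq_one_left h, hinv'])
    have hxy : π (x * y) ≠ 1 := by rw [map_mul]; exact ne_mul _ _ (Ne.symm hba)
    have hxz : π (x * z) ≠ 1 := by rw [map_mul]; exact ne_mul _ _ (Ne.symm hca)
    have hyz : π (y * z) ≠ 1 := by rw [map_mul]; exact ne_mul _ _ (Ne.symm hcb)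
    have hxyz : π (x * y * z) ≠ 1 := by rw [map_mul, map_mul]; exact ne_mul _ _ (Ne.symm hcab)
    have a1 := hanti x z ha hc1 hxz
    have a2 := hanti y z hb hc1 hyz
    have c3 : z * (x * y) = x * y * z := by
      calc z * (x * y) = x * z * u * y := by rw [← mul_assoc, a1]
        _ = x * (z * y) * u := by rw [mul_assoc _ u y, (hcen y).symm.eq]; group
        _ = x * y * z * (u * u) := by rw [a2]; group
        _ = x * y * z := by rw [hu2, mul_one]
    have h := hsqu _ hxyz
    have h' : x * y * z * (x * y * z) = 1 := by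
      calc x * y * z * (x * y * z) = x * y * (z * (x * y)) * z := by group
        _ = (x * y * (x * y)) * (z * z) := by rw [c3]; group
        _ = 1 := by rw [hsqu _ hxy, hsqu z hc1, hu2]
    exact hu1 (h.symm.trans h')
  have hcard : Nat.card K = Nat.card (K ⧸ Z) * 2 := by
    rw [Subgroup.card_eq_card_quotient_mul_card_subgroup Z, hZ, Nat.card_zpowers, hu]
  by_cases hall : ∀ q : K ⧸ Z, q = 1
  · left
    have : Subsingleton (K ⧸ Z) := ⟨fun a b => (hall a).trans (hall b).symm⟩
    rw [hcard, Nat.card_unique]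
  · right
    simp only [not_forall] at hall
    obtain ⟨a, ha⟩ := hall
    have hb : τ a ≠ 1 := fun h => ha (hτinj (h.trans (map_one τ).symm))
    have hba : τ a ≠ a := fun h => ha (hf a h)
    have h := hsmall a (τ a) ha hb hba
    have hab : a * τ a ≠ 1 := fun e => hba (by
      rw [eq_inv_of_mul_eq_one_right e]
      exact inv_eq_of_mul_eq_one_right (by rw [← sq, hexp]))
    haveI : Fintype (K ⧸ Z) := Fintype.ofFinite _
    have : (Finset.univ : Finset (K ⧸ Z)) = {1, a, τ a, a * τ a} := by
      ext c; simpa using h c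
    rw [hcard, Nat.card_eq_fintype_card, ← Finset.card_univ, this,
      Finset.card_insert_of_notMem (by simp [Ne.symm ha, Ne.symm hb, Ne.symm hab]),
      Finset.card_insert_of_notMem (by simp [Ne.symm hba, hb]),
      Finset.card_insert_of_notMem (by simp [ha]), Finset.card_singleton]

end Cfsg.Agent.Jordan
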