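import Cfsg.Agent.Lib.PermGp.Jordan.Core
import Mathlib.GroupTheory.GroupAction.MultipleTransitivity
import Mathlib.GroupTheory.Perm.Cycle.Type
import Mathlib.GroupTheory.Sylow
import Mathlib.GroupTheory.SpecificGroups.Cyclic
import Mathlib.Data.Fintype.CardEmbedding

/-!
Jordan's theorem on the degrees of sharply k-transitive groups, k ≥ 4.
-/

set_option autoImplicit false

namespace Cfsg.Agent.Jordan

variable {α : Type*} [Fintype α] [DecidableEq α]

/-- Sharp k-transitivity, on injective tuples. -/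
structure Sharp (G : Subgroup (Equiv.Perm α)) (k : ℕ) : Prop where
  trans : ∀ f g : Fin k → α, Function.Injective f → Function.Injective g →
    ∃ h ∈ G, ∀ i, h (f i) = g i
  sharp : ∀ h ∈ G, ∀ f : Fin k → α, Function.Injective f → (∀ i, h (f i) = f i) → h = 1

theorem Sharp.of_stabilizer {G : Subgroup (Equiv.Perm α)} {k : ℕ}
    [MulAction.IsMultiplyPretransitive G α k]
    (hsharp : ∀ x : Fin k ↪ α, MulAction.stabilizer G x = ⊥) : Sharp G k where
  trans f g hf hg := by
    obtain ⟨h, e⟩ := MulAction.exists_smul_eq G (⟨f, hf⟩ : Fin k ↪ α) ⟨g, hg⟩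
    exact ⟨h.1, h.2, fun i => congrArg (fun t : Fin k ↪ α => t i) e⟩
  sharp h hh f hf e := by
    have : (⟨h, hh⟩ : G) ∈ MulAction.stabilizer G (⟨f, hf⟩ : Fin k ↪ α) :=
      Function.Embedding.ext fun i => e i
    rw [hsharp, Subgroup.mem_bot] at this
    exact congrArg Subtype.val this

theorem inj_four {a b c d : α} (h : [a, b, c, d].Nodup) : Function.Injective ![a, b, c, d] :=
  List.nodup_ofFn.1 (by simpa using h)

namespace Sharp

variable {G : Subgroup (Equiv.Perm α)}

theorem tr4 (hG : Sharp G 4) {a b c d a' b' c' d' : α} (h : [a, b, c, d].Nodup)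
    (h' : [a', b', c', d'].Nodup) :
    ∃ g ∈ G, g a = a' ∧ g b = b' ∧ g c = c' ∧ g d = d' := by
  obtain ⟨g, hg, e⟩ := hG.trans _ _ (inj_four h) (inj_four h')
  exact ⟨g, hg, e 0, e 1, e 2, e 3⟩

theorem eq4 (hG : Sharp G 4) {g h : Equiv.Perm α} (hg : g ∈ G) (hh : h ∈ G) {a b c d : α}
    (hn : [a, b, c, d].Nodup) (ha : g a = h a) (hb : g b = h b) (hc : g c = h c) (hd : g d = h d) :
    g = h := by
  have key : ∀ x, g x = h x → (h⁻¹ * g) x = x := fun x e => by
    rw [Equiv.Perm.mul_apply, e, ← Equiv.Perm.mul_apply, inv_mul_cancel, Equiv.Perm.one_apply]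
  have := hG.sharp _ (G.mul_mem (G.inv_mem hh) hg) _ (inj_four hn) (fun i => by
    fin_cases i
    exacts [key a ha, key b hb, key c hc, key d hd])
  exact (inv_mul_eq_one.1 this).symm

/-- A non-trivial element fixes at most three points. -/
theorem card_fix_le (hG : Sharp G 4) {g : Equiv.Perm α} (hg : g ∈ G) (h1 : g ≠ 1) :
    (Finset.univ.filter fun x => g x = x).card ≤ 3 := by
  by_contra h
  obtain ⟨f⟩ : Nonempty (Fin 4 ↪ {x // x ∈ Finset.univ.filter fun x => g x = x}) :=
    Function.Embedding.nonempty_of_card_le (by simp only [Fintype.card_fin, Fintype.card_coe]; omega)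
  exact h1 (hG.sharp g hg (fun i => (f i).1) (fun i j e => f.injective (Subtype.ext e))
    (fun i => (Finset.mem_filter.1 (f i).2).2))

end Sharp

theorem inv_even {g : Equiv.Perm α} (h : g * g = 1) :
    Fintype.card α % 2 = (Finset.univ.filter fun x => g x = x).card % 2 := by
  have h2 := Equiv.Perm.two_dvd_card_support (σ := g) (by rw [sq, h])
  have e := Finset.card_filter_add_card_filter_not (s := (Finset.univ : Finset α)) (fun x => g x = x)
  have : (Finset.univ.filter fun x => ¬ g x = x) = g.support := by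
    ext x; simp [Equiv.Perm.mem_support]
  rw [this, Finset.card_univ] at e
  omega

theorem apply_apply_self {g : Equiv.Perm α} (h : g * g = 1) (x : α) : g (g x) = x := by
  rw [← Equiv.Perm.mul_apply, h, Equiv.Perm.one_apply]

variable {G : Subgroup (Equiv.Perm α)}

open Classical in
/-- The two-point stabilizer, as a finset. -/
noncomputable def stab2 (G : Subgroup (Equiv.Perm α)) (a b : α) : Finset (Equiv.Perm α) :=
  Finset.univ.filter fun g => g ∈ G ∧ g a = a ∧ g b = b

theorem mem_stab2 {a b : α} {g : Equiv.Perm α} :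
    g ∈ stab2 G a b ↔ g ∈ G ∧ g a = a ∧ g b = b := by simp [stab2]

/-- If no involution fixes three points, then the degree is at most six. -/
theorem degree_le_six (hG : Sharp G 4)
    (hno : ∀ g ∈ G, g * g = 1 → g ≠ 1 → (Finset.univ.filter fun x => g x = x).card ≤ 2) :
    Fintype.card α ≤ 6 := by
  classical
  by_contra hn
  obtain ⟨f⟩ : Nonempty (Fin 4 ↪ α) :=
    Function.Embedding.nonempty_of_card_le (by simp only [Fintype.card_fin]; omega)
  obtain ⟨a, b, c, d, hab, hac, had, hbc, hbd, hcd⟩ :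
      ∃ a b c d : α, a ≠ b ∧ a ≠ c ∧ a ≠ d ∧ b ≠ c ∧ b ≠ d ∧ c ≠ d :=
    ⟨f 0, f 1, f 2, f 3, by simp, by simp, by simp, by simp, by simp, by simp⟩
  have n1 : [a, b, c, d].Nodup := by simp [hab, hac, had, hbc, hbd, hcd]
  set R := ({a, b} : Finset α)ᶜ with hR
  have memR : ∀ x, x ∈ R ↔ x ≠ a ∧ x ≠ b := fun x => by simp [hR]
  have hRc : R.card = Fintype.card α - 2 := by
    rw [hR, Finset.card_compl, Finset.card_pair hab]
  have hc : c ∈ R := (memR c).2 ⟨hac.symm, hbc.symm⟩
  have hd : d ∈ R := (memR d).2 ⟨had.symm, hbd.symm⟩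
  set H := stab2 G a b with hH
  have stay : ∀ g ∈ H, ∀ x ∈ R, g x ∈ R := by
    intro g hg x hx
    obtain ⟨-, ga, gb⟩ := mem_stab2.1 hg
    obtain ⟨xa, xb⟩ := (memR x).1 hx
    exact (memR _).2 ⟨fun e => xa (g.injective (e.trans ga.symm)),
      fun e => xb (g.injective (e.trans gb.symm))⟩
  have nd : ∀ {x y : α}, x ∈ R → y ∈ R → x ≠ y → [a, b, x, y].Nodup := by
    intro x y hx hy hxy
    obtain ⟨xa, xb⟩ := (memR x).1 hx
    obtain ⟨ya, yb⟩ := (memR y).1 hy
    simp [hab, xa.symm, xb.symm, ya.symm, yb.symm, hxy]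
  have ext2 : ∀ {g h : Equiv.Perm α}, g ∈ H → h ∈ H → ∀ {x y : α}, x ∈ R → y ∈ R → x ≠ y →
      g x = h x → g y = h y → g = h := by
    intro g h hg hh x y hx hy hxy e1 e2
    obtain ⟨gG, ga, gb⟩ := mem_stab2.1 hg
    obtain ⟨hG', ha', hb'⟩ := mem_stab2.1 hh
    exact hG.eq4 gG hG' (nd hx hy hxy) (ga.trans ha'.symm) (gb.trans hb'.symm) e1 e2
  have tr2 : ∀ {x y x' y' : α}, x ∈ R → y ∈ R → x ≠ y → x' ∈ R → y' ∈ R → x' ≠ y' →
      ∃ g ∈ H, g x = x' ∧ g y = y' := by
    intro x y x' y' hx hy hxy hx' hy' hxy'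
    obtain ⟨g, hg, ga, gb, gx, gy⟩ := hG.tr4 (nd hx hy hxy) (nd hx' hy' hxy')
    exact ⟨g, mem_stab2.2 ⟨hg, ga, gb⟩, gx, gy⟩
  have hcardH : H.card = R.offDiag.card := by
    refine Finset.card_bij (fun g _ => (g c, g d)) ?_ ?_ ?_
    · intro g hg
      exact Finset.mem_offDiag.2 ⟨stay g hg c hc, stay g hg d hd, fun e => hcd (g.injective e)⟩
    · intro g hg h hh e
      exact ext2 hg hh hc hd hcd (congrArg Prod.fst e) (congrArg Prod.snd e)
    · rintro ⟨x, y⟩ hxy
      obtain ⟨hx, hy, hne⟩ := Finset.mem_offDiag.1 hxy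
      obtain ⟨g, hg, e1, e2⟩ := tr2 hc hd hcd hx hy hne
      exact ⟨g, hg, by simp [e1, e2]⟩
  set F : α → Finset (Equiv.Perm α) := fun x => (H.erase 1).filter fun g => g x = x with hF
  have hFc : ∀ x ∈ R, (F x).card = R.card - 2 := by
    intro x hx
    obtain ⟨y, hy⟩ : (R.erase x).Nonempty :=
      Finset.card_pos.1 (by rw [Finset.card_erase_of_mem hx]; omega)
    obtain ⟨hyx, hyR⟩ := Finset.mem_erase.1 hy
    have e : ((R.erase x).erase y).card = R.card - 2 := by
      rw [Finset.card_erase_of_mem hy, Finset.card_erase_of_mem hx]; omega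
    rw [← e]
    refine Finset.card_bij (fun g _ => g y) ?_ ?_ ?_
    · intro g hg
      obtain ⟨hg', gx⟩ := Finset.mem_filter.1 hg
      obtain ⟨g1, hgH⟩ := Finset.mem_erase.1 hg'
      have h1H : (1 : Equiv.Perm α) ∈ H := mem_stab2.2 ⟨G.one_mem, rfl, rfl⟩
      refine Finset.mem_erase.2 ⟨fun e => g1 (ext2 hgH h1H hx hyR hyx.symm gx e),
        Finset.mem_erase.2 ⟨fun e => hyx (g.injective (e.trans gx.symm)), stay g hgH y hyR⟩⟩
    · intro g hg h hh e
      obtain ⟨hg', gx⟩ := Finset.mem_filter.1 hg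
      obtain ⟨hh', hx'⟩ := Finset.mem_filter.1 hh
      exact ext2 (Finset.mem_of_mem_erase hg') (Finset.mem_of_mem_erase hh') hx hyR hyx.symm
        (gx.trans hx'.symm) e
    · intro z hz
      obtain ⟨hzy, hz'⟩ := Finset.mem_erase.1 hz
      obtain ⟨hzx, hzR⟩ := Finset.mem_erase.1 hz'
      obtain ⟨g, hg, e1, e2⟩ := tr2 hx hyR hyx.symm hx hzR hzx.symm
      refine ⟨g, Finset.mem_filter.2 ⟨Finset.mem_erase.2 ⟨fun h => ?_, hg⟩, e1⟩, e2⟩
      subst h
      exact hzy e2.symm
  set D := (H.erase 1).filter fun g => ∀ x ∈ R, g x ≠ x with hD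
  set E := H.filter fun g => g * g = 1 ∧ g ≠ 1 with hE
  have hsplit : H.card = 1 + D.card + R.card * (R.card - 2) := by
    have h1H : (1 : Equiv.Perm α) ∈ H := mem_stab2.2 ⟨G.one_mem, rfl, rfl⟩
    have e1 : ((H.erase 1).filter fun g => ¬ ∀ x ∈ R, g x ≠ x) = R.biUnion F := by
      ext g; simp [hF]
      constructor
      · rintro ⟨h, x, hx, e⟩; exact ⟨x, hx, h, e⟩
      · rintro ⟨x, hx, h, e⟩; exact ⟨h, x, hx, e⟩
    have e2 : (R.biUnion F).card = R.card * (R.card - 2) := by
      rw [Finset.card_biUnion, Finset.sum_const_nat hFc]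
      intro x hx y hy hxy
      rw [Function.onFun, Finset.disjoint_left]
      intro g hg hg'
      obtain ⟨hg1, gx⟩ := Finset.mem_filter.1 hg
      obtain ⟨-, gy⟩ := Finset.mem_filter.1 hg'
      exact (Finset.mem_erase.1 hg1).1
        (ext2 (Finset.mem_of_mem_erase hg1) h1H hx hy hxy gx gy)
    have e3 := Finset.card_filter_add_card_filter_not (s := H.erase 1)
      (fun g => ∀ x ∈ R, g x ≠ x)
    rw [e1, e2, ← hD] at e3
    rw [← Finset.card_erase_add_one h1H]
    omega
  have hDc : D.card = R.card - 1 := by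
    rw [hcardH, Finset.offDiag_card] at hsplit
    obtain ⟨r, hr⟩ : ∃ r, R.card = r + 2 := ⟨R.card - 2, by omega⟩
    rw [hr] at hsplit ⊢
    simp only [Nat.add_sub_cancel] at hsplit ⊢
    have : (r + 2) * (r + 2) - (r + 2) = (r + 2) * (r + 1) :=
      Nat.sub_eq_of_eq_add (by ring)
    rw [this] at hsplit
    have e1 : (r + 2) * (r + 1) = r * r + 3 * r + 2 := by ring
    have e2 : (r + 2) * r = r * r + 2 * r := by ring
    omega
  have hinvol : ∀ g ∈ G, g * g = 1 → g ≠ 1 → ∀ p q : α, p ≠ q → g p = p → g q = q →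
      ∀ x, g x = x → x = p ∨ x = q := by
    intro g hg g2 g1 p q hpq gp gq x gx
    by_contra hx
    simp only [not_or] at hx
    have h3 : ({p, q, x} : Finset α).card = 3 := by
      simp [Finset.card_insert_of_notMem, hpq, Ne.symm hx.1, Ne.symm hx.2]
    have := Finset.card_le_card (s := ({p, q, x} : Finset α))
      (t := Finset.univ.filter fun z => g z = z) (by
        intro z; simp only [Finset.mem_insert, Finset.mem_singleton]
        rintro (rfl | rfl | rfl) <;> simp [gp, gq, gx])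
    have := hno g hg g2 g1
    omega
  have hED : E ⊆ D := by
    intro g hg
    obtain ⟨hgH, g2, g1⟩ := Finset.mem_filter.1 hg
    obtain ⟨gG, ga, gb⟩ := mem_stab2.1 hgH
    refine Finset.mem_filter.2 ⟨Finset.mem_erase.2 ⟨g1, hgH⟩, fun x hx e => ?_⟩
    rcases hinvol g gG g2 g1 a b hab ga gb x e with h | h
    exacts [((memR x).1 hx).1 h, ((memR x).1 hx).2 h]
  have swapE : ∀ {x y : α}, x ∈ R → y ∈ R → x ≠ y → ∃ g ∈ E, g x = y ∧ g y = x := by
    intro x y hx hy hxy
    obtain ⟨g, hg, e1, e2⟩ := tr2 hx hy hxy hy hx hxy.symm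
    obtain ⟨gG, ga, gb⟩ := mem_stab2.1 hg
    refine ⟨g, Finset.mem_filter.2 ⟨hg, ?_, fun h => hxy ?_⟩, e1, e2⟩
    · exact ext2 (mem_stab2.2 ⟨G.mul_mem gG gG, by simp [ga], by simp [gb]⟩)
        (mem_stab2.2 ⟨G.one_mem, rfl, rfl⟩) hx hy hxy (by simp [e1, e2]) (by simp [e1, e2])
    · subst h; exact e1
  have hDE : D = E := by
    refine (Finset.eq_of_subset_of_card_le hED ?_).symm
    rw [hDc, ← Finset.card_erase_of_mem hc]
    refine (Finset.card_le_card (t := E.image fun g => g c) fun y hy => ?_).trans Finset.card_image_le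
    obtain ⟨hyc, hyR⟩ := Finset.mem_erase.1 hy
    obtain ⟨g, hg, e, -⟩ := swapE hc hyR hyc.symm
    exact Finset.mem_image.2 ⟨g, hg, e⟩
  have hcomm : ∀ g ∈ E, ∀ h ∈ E, g * h * (g * h) = 1 ∧ g * h = h * g := by
    intro g hg h hh
    obtain ⟨gH, g2, g1⟩ := Finset.mem_filter.1 hg
    obtain ⟨hH', h2, h1⟩ := Finset.mem_filter.1 hh
    have key : g * h * (g * h) = 1 := by
      by_cases e : g * h = 1
      · rw [e, one_mul]
      obtain ⟨gG, ga, gb⟩ := mem_stab2.1 gH
      obtain ⟨hG', ha', hb'⟩ := mem_stab2.1 hH'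
      have ghH : g * h ∈ H := mem_stab2.2 ⟨G.mul_mem gG hG', by simp [ga, ha'], by simp [gb, hb']⟩
      have hghD : g * h ∈ D := by
        refine Finset.mem_filter.2 ⟨Finset.mem_erase.2 ⟨e, ghH⟩, fun x hx ex => e ?_⟩
        rw [Equiv.Perm.mul_apply] at ex
        have e' : h x = g x := by
          have := congrArg g ex
          rwa [apply_apply_self g2] at this
        have hne : h x ≠ x := (Finset.mem_filter.1 (hED hh)).2 x hx
        have : g = h := ext2 gH hH' hx (stay h hH' x hx) hne.symm e'.symm (by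
          rw [apply_apply_self h2, e', apply_apply_self g2])
        rw [this]; exact h2
      rw [hDE] at hghD
      exact (Finset.mem_filter.1 hghD).2.1
    refine ⟨key, ?_⟩
    have hi : (g * h)⁻¹ = g * h := inv_eq_of_mul_eq_one_right key
    rw [← hi, mul_inv_rev, inv_eq_of_mul_eq_one_right g2, inv_eq_of_mul_eq_one_right h2]
  obtain ⟨u, huE, uc, ud⟩ := swapE hc hd hcd
  obtain ⟨v, hv, va, vb, vc, vd⟩ := hG.tr4 n1
    (a' := b) (b' := a) (c' := c) (d' := d) (by simp [hab.symm, hac, had, hbc, hbd, hcd])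
  have v2 : v * v = 1 := hG.eq4 (G.mul_mem hv hv) G.one_mem n1 (by simp [va, vb])
    (by simp [va, vb]) (by simp [vc]) (by simp [vd])
  have v1 : v ≠ 1 := fun h => hab (by subst h; exact va)
  have vfix := hinvol v hv v2 v1 c d hcd vc vd
  obtain ⟨uH, u2, u1⟩ := Finset.mem_filter.1 huE
  obtain ⟨uG, ua, ub⟩ := mem_stab2.1 uH
  have hRv : ∀ x ∈ R, x ≠ c → x ≠ d → v x = u x := by
    intro x hx hxc hxd
    obtain ⟨g, hg, gc, -⟩ := swapE hc hx hxc.symm
    obtain ⟨gH, g2, g1⟩ := Finset.mem_filter.1 hg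
    obtain ⟨gG, ga, gb⟩ := mem_stab2.1 gH
    have hg' : v * g * v ∈ E := by
      refine Finset.mem_filter.2 ⟨mem_stab2.2 ⟨G.mul_mem (G.mul_mem hv gG) hv,
        by simp [va, gb, vb], by simp [vb, ga, va]⟩, ?_, fun e => g1 ?_⟩
      · calc v * g * v * (v * g * v) = v * g * (v * v) * g * v := by group
          _ = v * (g * g) * v := by rw [v2]; group
          _ = 1 := by rw [g2, mul_one, v2]
      · calc g = (v * v) * g * (v * v) := by rw [v2]; group
          _ = v * (v * g * v) * v := by group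
          _ = 1 := by rw [e, mul_one, v2]
    set p := g * (v * g * v) with hp
    have vpc : v (p c) = p c := by
      calc v (p c) = (v * g * v * g) c := by
            have : v * p = v * g * v * g * v := by rw [hp]; group
            rw [← Equiv.Perm.mul_apply, this]; simp [vc]
        _ = p c := by rw [hp, (hcomm g hg _ hg').2]
    have pcd : p c = c ∨ p c = d := vfix _ vpc
    have e : g (p c) = v x := by
      simp only [hp, Equiv.Perm.mul_apply, vc, gc]
      rw [apply_apply_self g2]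
    rcases pcd with h | h
    · exfalso
      rw [h, gc] at e
      rcases vfix x e.symm with h' | h'
      exacts [hxc h', hxd h']
    · rw [← e, h, ← uc, ← Equiv.Perm.mul_apply, (hcomm g hg u huE).2, Equiv.Perm.mul_apply, gc]
  have h4 : ((R.erase c).erase d).card ≥ 4 := by
    have := inv_even u2
    have hu : (Finset.univ.filter fun z => u z = z).card = 2 := by
      refine le_antisymm (hno u uG u2 u1) ?_
      rw [← Finset.card_pair hab]
      refine Finset.card_le_card ?_
      intro z; simp only [Finset.mem_insert, Finset.mem_singleton]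
      rintro (rfl | rfl) <;> simp [ua, ub]
    rw [Finset.card_erase_of_mem (Finset.mem_erase.2 ⟨hcd.symm, hd⟩), Finset.card_erase_of_mem hc]
    omega
  have huv : u * v = 1 := by
    by_contra h
    have h' := hG.card_fix_le (G.mul_mem uG hv) h
    have : (R.erase c).erase d ⊆ Finset.univ.filter fun z => (u * v) z = z := by
      intro z hz
      obtain ⟨hzd, hz'⟩ := Finset.mem_erase.1 hz
      obtain ⟨hzc, hzR⟩ := Finset.mem_erase.1 hz'
      refine Finset.mem_filter.2 ⟨Finset.mem_univ _, ?_⟩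
      rw [Equiv.Perm.mul_apply, hRv z hzR hzc hzd, apply_apply_self u2]
    have := Finset.card_le_card this
    omega
  have := congrArg (fun p : Equiv.Perm α => p a) huv
  simp [va, ub] at this
  exact hab this.symm

/-- Subgroup fixing three given points. -/
def fix3 (G : Subgroup (Equiv.Perm α)) (a b e : α) : Subgroup (Equiv.Perm α) where
  carrier := {g | g ∈ G ∧ g a = a ∧ g b = b ∧ g e = e}
  one_mem' := ⟨G.one_mem, rfl, rfl, rfl⟩
  mul_mem' := fun {g h} hg hh => ⟨G.mul_mem hg.1 hh.1, by simp [hg.2.1, hh.2.1],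
    by simp [hg.2.2.1, hh.2.2.1], by simp [hg.2.2.2, hh.2.2.2]⟩
  inv_mem' := fun {g} hg => ⟨G.inv_mem hg.1, Equiv.Perm.inv_eq_iff_eq.2 hg.2.1.symm,
    Equiv.Perm.inv_eq_iff_eq.2 hg.2.2.1.symm, Equiv.Perm.inv_eq_iff_eq.2 hg.2.2.2.symm⟩

theorem mem_fix3 {a b e : α} {g : Equiv.Perm α} :
    g ∈ fix3 G a b e ↔ g ∈ G ∧ g a = a ∧ g b = b ∧ g e = e := Iff.rfl

theorem fix3_conj {a b e : α} {w g : Equiv.Perm α} (hw : w ∈ G)
    (hs : ∀ x, (x = a ∨ x = b ∨ x = e) → w⁻¹ x = a ∨ w⁻¹ x = b ∨ w⁻¹ x = e)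
    (hg : g ∈ fix3 G a b e) : w * g * w⁻¹ ∈ fix3 G a b e := by
  obtain ⟨hgG, ga, gb, ge⟩ := hg
  have key : ∀ x, (x = a ∨ x = b ∨ x = e) → (w * g * w⁻¹) x = x := by
    intro x hx
    have : g (w⁻¹ x) = w⁻¹ x := by rcases hs x hx with h | h | h <;> simp only [h, ga, gb, ge]
    simp only [Equiv.Perm.mul_apply, this]
    rw [← Equiv.Perm.mul_apply, mul_inv_cancel, Equiv.Perm.one_apply]
  exact ⟨G.mul_mem (G.mul_mem hw hgG) (G.inv_mem hw), key a (.inl rfl), key b (.inr (.inl rfl)),
    key e (.inr (.inr rfl))⟩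

/-- Conjugation by an element permuting the three points. -/
def fix3Aut {a b e : α} (w : Equiv.Perm α) (hw : w ∈ G)
    (hs : ∀ x, (x = a ∨ x = b ∨ x = e) → w⁻¹ x = a ∨ w⁻¹ x = b ∨ w⁻¹ x = e)
    (hs' : ∀ x, (x = a ∨ x = b ∨ x = e) → w x = a ∨ w x = b ∨ w x = e) :
    fix3 G a b e ≃* fix3 G a b e where
  toFun g := ⟨w * g.1 * w⁻¹, fix3_conj hw hs g.2⟩
  invFun g := ⟨w⁻¹ * g.1 * w⁻¹⁻¹,
    fix3_conj (G.inv_mem hw) (fun x hx => by rw [inv_inv]; exact hs' x hx) g.2⟩
  left_inv g := Subtype.ext (by simp [mul_assoc])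
  right_inv g := Subtype.ext (by simp [mul_assoc])
  map_mul' g h := Subtype.ext (by simp [mul_assoc])

/-- The case where some involution fixes three points. -/
theorem degree_of_three (hG : Sharp G 4) {u : Equiv.Perm α} (hu : u ∈ G) (u2 : u * u = 1)
    (u1 : u ≠ 1) {a b e : α} (hab : a ≠ b) (hae : a ≠ e) (hbe : b ≠ e)
    (ua : u a = a) (ub : u b = b) (ue : u e = e) :
    Fintype.card α = 5 ∨ Fintype.card α = 11 := by
  classical
  obtain ⟨c, hc⟩ : ∃ c, u c ≠ c := by
    by_contra h; exact u1 (Equiv.ext fun x => not_not.1 fun hx => h ⟨x, hx⟩)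
  obtain ⟨d, hd⟩ : ∃ d, u c = d := ⟨_, rfl⟩
  have udc : u d = c := by rw [← hd, apply_apply_self u2]
  have hcd : c ≠ d := fun h => hc (hd.trans h.symm)
  have hca : c ≠ a := fun h => hc (by rw [h, ua])
  have hcb : c ≠ b := fun h => hc (by rw [h, ub])
  have hce : c ≠ e := fun h => hc (by rw [h, ue])
  have hda : d ≠ a := fun h => hcd (by rw [← udc, h, ua])
  have hdb : d ≠ b := fun h => hcd (by rw [← udc, h, ub])
  have hde : d ≠ e := fun h => hcd (by rw [← udc, h, ue])
  have n1 : [a, b, c, d].Nodup := by simp [hab, hca.symm, hda.symm, hcb.symm, hdb.symm, hcd]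
  have n2 : [a, b, e, c].Nodup := by simp [hab, hae, hbe, hca.symm, hcb.symm, hce.symm]
  have three : ∀ {g : Equiv.Perm α} {p q r : α}, g ∈ G → g ≠ 1 → p ≠ q → p ≠ r → q ≠ r →
      g p = p → g q = q → g r = r → ∀ x, g x = x → x = p ∨ x = q ∨ x = r := by
    intro g p q r hg g1 hpq hpr hqr gp gq gr x gx
    by_contra hx
    simp only [not_or] at hx
    exact g1 (hG.eq4 hg G.one_mem (a := p) (b := q) (c := r) (d := x)
      (by simp [hpq, hpr, hqr, Ne.symm hx.1, Ne.symm hx.2.1, Ne.symm hx.2.2]) gp gq gr gx)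
  have ufix := three hu u1 hab hae hbe ua ub ue
  have hodd : Fintype.card α % 2 = 1 := by
    rw [inv_even u2]
    have : (Finset.univ.filter fun x => u x = x) = {a, b, e} := by
      ext x
      simp only [Finset.mem_filter, Finset.mem_univ, true_and, Finset.mem_insert, Finset.mem_singleton]
      exact ⟨ufix x, by rintro (rfl | rfl | rfl) <;> assumption⟩
    rw [this]; simp [hab, hae, hbe]
  have third : ∀ {g : Equiv.Perm α} {p q : α}, g ∈ G → g * g = 1 → g ≠ 1 → p ≠ q → g p = p →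
      g q = q → ∃ r, r ≠ p ∧ r ≠ q ∧ g r = r := by
    intro g p q hg g2 g1 hpq gp gq
    by_contra h
    have : (Finset.univ.filter fun x => g x = x) = {p, q} := by
      ext x
      simp only [Finset.mem_filter, Finset.mem_univ, true_and, Finset.mem_insert, Finset.mem_singleton]
      refine ⟨fun gx => ?_, by rintro (rfl | rfl) <;> assumption⟩
      by_contra hx
      simp only [not_or] at hx
      exact h ⟨x, hx.1, hx.2, gx⟩
    have := inv_even g2 ▸ hodd
    simp_all
  -- `u` is the only involution fixing `a`, `b`, `e`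
  have huniq : ∀ g ∈ G, g * g = 1 → g ≠ 1 → g a = a → g b = b → g e = e → g = u := by
    set R := ({a, b} : Finset α)ᶜ with hR
    have memR : ∀ x, x ∈ R ↔ x ≠ a ∧ x ≠ b := fun x => by simp [hR]
    have hcR : c ∈ R := (memR c).2 ⟨hca, hcb⟩
    have heR : e ∈ R := (memR e).2 ⟨hae.symm, hbe.symm⟩
    set E := (stab2 G a b).filter fun g => g * g = 1 ∧ g ≠ 1 with hE
    have memE : ∀ g, g ∈ E ↔ (g ∈ G ∧ g a = a ∧ g b = b) ∧ g * g = 1 ∧ g ≠ 1 := fun g => by
      simp [hE, mem_stab2]
    set k : α → ℕ := fun x => (E.filter fun g => g x = x).card with hk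
    have kle : ∀ x ∈ R, ∀ y ∈ R, k x ≤ k y := by
      intro x hx y hy
      obtain ⟨xa, xb⟩ := (memR x).1 hx
      obtain ⟨ya, yb⟩ := (memR y).1 hy
      obtain ⟨x', hx'⟩ : (R.erase x).Nonempty := by
        rcases eq_or_ne x c with h | h
        exacts [⟨e, Finset.mem_erase.2 ⟨fun h' => hce (h.symm.trans h'.symm), heR⟩⟩,
          ⟨c, Finset.mem_erase.2 ⟨h.symm, hcR⟩⟩]
      obtain ⟨y', hy'⟩ : (R.erase y).Nonempty := by
        rcases eq_or_ne y c with h | h
        exacts [⟨e, Finset.mem_erase.2 ⟨fun h' => hce (h.symm.trans h'.symm), heR⟩⟩,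
          ⟨c, Finset.mem_erase.2 ⟨h.symm, hcR⟩⟩]
      obtain ⟨hxx, hx'⟩ := Finset.mem_erase.1 hx'
      obtain ⟨hyy, hy'⟩ := Finset.mem_erase.1 hy'
      obtain ⟨xa', xb'⟩ := (memR x').1 hx'
      obtain ⟨ya', yb'⟩ := (memR y').1 hy'
      obtain ⟨w, hw, wa, wb, wx, -⟩ := hG.tr4 (a := a) (b := b) (c := x) (d := x')
        (a' := a) (b' := b) (c' := y) (d' := y')
        (by simp [hab, xa.symm, xb.symm, xa'.symm, xb'.symm, hxx.symm])
        (by simp [hab, ya.symm, yb.symm, ya'.symm, yb'.symm, hyy.symm])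
      refine Finset.card_le_card_of_injOn (fun g => w * g * w⁻¹) (fun g hg => ?_)
        (fun g _ h _ e => mul_left_cancel (mul_right_cancel e))
      obtain ⟨hgE, gx⟩ := Finset.mem_filter.1 hg
      obtain ⟨⟨hgG, ga, gb⟩, g2, g1⟩ := (memE g).1 hgE
      refine Finset.mem_filter.2 ⟨(memE _).2 ⟨⟨G.mul_mem (G.mul_mem hw hgG) (G.inv_mem hw), ?_, ?_⟩,
        ?_, ?_⟩, ?_⟩
      · rw [Equiv.Perm.mul_apply, Equiv.Perm.mul_apply, Equiv.Perm.inv_eq_iff_eq.2 wa.symm, ga, wa]
      · rw [Equiv.Perm.mul_apply, Equiv.Perm.mul_apply, Equiv.Perm.inv_eq_iff_eq.2 wb.symm, gb, wb]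
      · calc w * g * w⁻¹ * (w * g * w⁻¹) = w * (g * g) * w⁻¹ := by group
          _ = 1 := by rw [g2]; group
      · exact fun h => g1 (conj_eq_one_iff.1 h)
      · rw [Equiv.Perm.mul_apply, Equiv.Perm.mul_apply, Equiv.Perm.inv_eq_iff_eq.2 wx.symm, gx, wx]
    have hsum : E.card = R.card * k c := by
      rw [← Finset.sum_const_nat (fun x hx => le_antisymm (kle x hx c hcR) (kle c hcR x hx)), hk,
        ← Finset.card_biUnion]
      · congr 1
        ext g
        simp only [Finset.mem_biUnion, Finset.mem_filter]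
        refine ⟨fun hg => ?_, fun ⟨_, _, hg, _⟩ => hg⟩
        obtain ⟨⟨hgG, ga, gb⟩, g2, g1⟩ := (memE g).1 hg
        obtain ⟨r, ra, rb, gr⟩ := third hgG g2 g1 hab ga gb
        exact ⟨r, (memR r).2 ⟨ra, rb⟩, hg, gr⟩
      · intro x hx y hy hxy
        rw [Function.onFun, Finset.disjoint_left]
        intro g hg hg'
        obtain ⟨hgE, gx⟩ := Finset.mem_filter.1 hg
        obtain ⟨-, gy⟩ := Finset.mem_filter.1 hg'
        obtain ⟨⟨hgG, ga, gb⟩, g2, g1⟩ := (memE g).1 hgE
        obtain ⟨xa, xb⟩ := (memR x).1 hx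
        rcases three hgG g1 hab xa.symm xb.symm ga gb gx y gy with h | h | h
        exacts [((memR y).1 hy).1 h, ((memR y).1 hy).2 h, hxy h.symm]
    have hmove : (E.filter fun g => ¬ g c = c).card = R.card - 1 := by
      rw [← Finset.card_erase_of_mem hcR]
      refine Finset.card_bij (fun g _ => g c) ?_ ?_ ?_
      · intro g hg
        obtain ⟨hgE, gc⟩ := Finset.mem_filter.1 hg
        obtain ⟨⟨hgG, ga, gb⟩, -, -⟩ := (memE g).1 hgE
        exact Finset.mem_erase.2 ⟨gc, (memR _).2 ⟨fun h => hca (g.injective (h.trans ga.symm)),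
          fun h => hcb (g.injective (h.trans gb.symm))⟩⟩
      · intro g hg h hh eq
        obtain ⟨hgE, gc⟩ := Finset.mem_filter.1 hg
        obtain ⟨⟨hgG, ga, gb⟩, g2, -⟩ := (memE g).1 hgE
        obtain ⟨⟨hhG, ha, hb⟩, h2, -⟩ := (memE h).1 (Finset.mem_filter.1 hh).1
        refine hG.eq4 hgG hhG (a := a) (b := b) (c := c) (d := g c) ?_ (ga.trans ha.symm)
          (gb.trans hb.symm) eq (by rw [apply_apply_self g2]; rw [eq, apply_apply_self h2])
        have e1 : g c ≠ a := fun h => hca (g.injective (h.trans ga.symm))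
        have e2 : g c ≠ b := fun h => hcb (g.injective (h.trans gb.symm))
        simp [hab, hca.symm, hcb.symm, e1.symm, e2.symm, Ne.symm gc]
      · intro y hy
        obtain ⟨hyc, hyR⟩ := Finset.mem_erase.1 hy
        obtain ⟨ya, yb⟩ := (memR y).1 hyR
        have nn : [a, b, c, y].Nodup := by simp [hab, hca.symm, hcb.symm, ya.symm, yb.symm, hyc.symm]
        obtain ⟨g, hg, ga, gb, gc, gy⟩ := hG.tr4 nn (a' := a) (b' := b) (c' := y) (d' := c)
          (by simp [hab, hca.symm, hcb.symm, ya.symm, yb.symm, hyc])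
        refine ⟨g, Finset.mem_filter.2 ⟨(memE g).2 ⟨⟨hg, ga, gb⟩, hG.eq4 (G.mul_mem hg hg) G.one_mem
          nn (by simp [ga]) (by simp [gb]) (by simp [gc, gy]) (by simp [gc, gy]), fun h => hyc ?_⟩,
          by rw [gc]; exact hyc⟩, gc⟩
        subst h; exact gc.symm
    have hkc : k c = 1 := by
      have := Finset.card_filter_add_card_filter_not (s := E) (fun g => g c = c)
      rw [hmove, hsum] at this
      have hR2 : 2 ≤ R.card := Finset.one_lt_card.2 ⟨c, hcR, e, heR, hce⟩
      have h' : k c + (R.card - 1) = R.card * k c := this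
      obtain ⟨r, hr⟩ : ∃ r, R.card = r + 2 := ⟨R.card - 2, by omega⟩
      rw [hr] at h'
      simp only [show r + 2 - 1 = r + 1 by omega] at h'
      nlinarith
    intro g hg g2 g1 ga gb ge
    have hke : k e = 1 := le_antisymm (hkc ▸ kle e heR c hcR) (hkc ▸ kle c hcR e heR)
    exact Finset.card_le_one.1 hke.le g (Finset.mem_filter.2 ⟨(memE g).2 ⟨⟨hg, ga, gb⟩, g2, g1⟩, ge⟩)
      u (Finset.mem_filter.2 ⟨(memE u).2 ⟨⟨hu, ua, ub⟩, u2, u1⟩, ue⟩)
  -- the involution `v` and the 3-element `w`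
  obtain ⟨v, hv, va, vb, vc, vd⟩ := hG.tr4 n1 (a' := b) (b' := a) (c' := c) (d' := d)
    (by simp [hab.symm, hca.symm, hda.symm, hcb.symm, hdb.symm, hcd])
  have v2 : v * v = 1 := hG.eq4 (G.mul_mem hv hv) G.one_mem n1 (by simp [va, vb])
    (by simp [va, vb]) (by simp [vc]) (by simp [vd])
  have v1 : v ≠ 1 := fun h => hab (by subst h; exact va)
  have uv : u * v = v * u := hG.eq4 (G.mul_mem hu hv) (G.mul_mem hv hu) n1 (by simp [va, ua, ub])
    (by simp [vb, ua, ub]) (by simp [vc, hd, vd]) (by simp [vd, udc, vc])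
  have ve : v e = e := by
    have : u (v e) = v e := by
      rw [← Equiv.Perm.mul_apply, uv, Equiv.Perm.mul_apply, ue]
    rcases ufix _ this with h | h | h
    · exact absurd (v.injective (h.trans vb.symm)) hbe.symm
    · exact absurd (v.injective (h.trans va.symm)) hae.symm
    · exact h
  have vinv : v⁻¹ = v := inv_eq_of_mul_eq_one_right v2
  have hsv : ∀ x, (x = a ∨ x = b ∨ x = e) → v x = a ∨ v x = b ∨ v x = e := by
    rintro x (rfl | rfl | rfl) <;> simp [va, vb, ve]
  obtain ⟨w, hw, wa, wb, wc, wd⟩ := hG.tr4 n1 (a' := b) (b' := e) (c' := c) (d' := d)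
    (by simp [hbe, hcb.symm, hdb.symm, hce.symm, hde.symm, hcd])
  have uw : u * w = w * u := hG.eq4 (G.mul_mem hu hw) (G.mul_mem hw hu) n1 (by simp [wa, ua, ub])
    (by simp [wb, ub, ue]) (by simp [wc, hd, wd]) (by simp [wd, udc, wc])
  have we : w e = a := by
    have : u (w e) = w e := by
      rw [← Equiv.Perm.mul_apply, uw, Equiv.Perm.mul_apply, ue]
    rcases ufix _ this with h | h | h
    · exact h
    · exact absurd (w.injective (h.trans wa.symm)) hae.symm
    · exact absurd (w.injective (h.trans wb.symm)) hbe.symm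
  have w3 : w * w * w = 1 := hG.eq4 (G.mul_mem (G.mul_mem hw hw) hw) G.one_mem n1
    (by simp [wa, wb, we]) (by simp [wa, wb, we]) (by simp [wc]) (by simp [wd])
  have w1 : w ≠ 1 := fun h => hab (by subst h; exact wa)
  have winv : w⁻¹ = w * w := inv_eq_of_mul_eq_one_right (by rw [← mul_assoc, w3])
  have hsw : ∀ x, (x = a ∨ x = b ∨ x = e) → w x = a ∨ w x = b ∨ w x = e := by
    rintro x (rfl | rfl | rfl) <;> simp [wa, wb, we]
  have hsw' : ∀ x, (x = a ∨ x = b ∨ x = e) → w⁻¹ x = a ∨ w⁻¹ x = b ∨ w⁻¹ x = e := by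
    rw [winv]; rintro x (rfl | rfl | rfl) <;> simp [wa, wb, we]
  let θ := fix3Aut (G := G) (a := a) (b := b) (e := e) v hv (fun x hx => by rw [vinv]; exact hsv x hx) hsv
  let σ := fix3Aut (G := G) (a := a) (b := b) (e := e) w hw hsw' hsw
  let u' : fix3 G a b e := ⟨u, hu, ua, ub, ue⟩
  have vwv : v * w * v = w * w := hG.eq4 (G.mul_mem (G.mul_mem hv hw) hv) (G.mul_mem hw hw) n1
    (by simp [va, wb, ve, wa]) (by simp [vb, wa, wb, we]) (by simp [vc, wc]) (by simp [vd, wd])
  have hkK : ∀ g : fix3 G a b e, g.1 c ≠ a ∧ g.1 c ≠ b ∧ g.1 c ≠ e := fun g =>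
    ⟨fun h => hca (g.1.injective (h.trans g.2.2.1.symm)),
      fun h => hcb (g.1.injective (h.trans g.2.2.2.1.symm)),
      fun h => hce (g.1.injective (h.trans g.2.2.2.2.symm))⟩
  have hdet : ∀ g h : fix3 G a b e, g.1 c = h.1 c → g = h := fun g h eq =>
    Subtype.ext (hG.eq4 g.2.1 h.2.1 n2 (g.2.2.1.trans h.2.2.1.symm)
      (g.2.2.2.1.trans h.2.2.2.1.symm) (g.2.2.2.2.trans h.2.2.2.2.symm) eq)
  have hu'2 : orderOf u' = 2 :=
    orderOf_eq_prime (Subtype.ext (by rw [sq]; exact u2)) (fun h => u1 (congrArg Subtype.val h))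
  have huniq' : ∀ x : fix3 G a b e, orderOf x = 2 → x = u' := fun x hx => by
    have x2 : x * x = 1 := by rw [← sq, ← hx, pow_orderOf_eq_one]
    have x1 : x ≠ 1 := fun h => by rw [h, orderOf_one] at hx; omega
    exact Subtype.ext (huniq x.1 x.2.1 (congrArg Subtype.val x2)
      (fun h => x1 (Subtype.ext h)) x.2.2.1 x.2.2.2.1 x.2.2.2.2)
  have hfθ : ∀ x, θ x = x → x = 1 ∨ x = u' := by
    intro x hx
    have hx' : v * x.1 * v⁻¹ = x.1 := congrArg Subtype.val hx
    have hvx : v (x.1 c) = x.1 c := by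
      rw [← Equiv.Perm.mul_apply, mul_inv_eq_iff_eq_mul.1 hx', Equiv.Perm.mul_apply, vc]
    rcases three hv v1 hcd hce hde vc vd ve _ hvx with h | h | h
    · exact Or.inl (hdet x 1 h)
    · exact Or.inr (hdet x u' (h.trans hd.symm))
    · exact absurd h (hkK x).2.2
  have hfσ : ∀ x, σ x = x → x = 1 ∨ x = u' := by
    let S : Subgroup (fix3 G a b e) :=
      (Subgroup.centralizer ({w} : Set (Equiv.Perm α))).comap (fix3 G a b e).subtype
    have memS : ∀ x, x ∈ S ↔ w * x.1 = x.1 * w := fun x => by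
      simp [S, Subgroup.mem_subgroupOf, Subgroup.mem_centralizer_iff]
    have huS : u' ∈ S := (memS u').2 uw.symm
    haveI : Fintype S := Fintype.ofFinite _
    have hle : Nat.card S ≤ 3 := by
      refine le_trans ?_ (hG.card_fix_le hw w1)
      rw [Nat.card_eq_fintype_card, ← Finset.card_univ]
      refine Finset.card_le_card_of_injOn (fun x => x.1.1 c) (fun x _ => ?_)
        (fun x _ y _ eq => Subtype.ext (hdet _ _ eq))
      have h := congrArg (fun p : Equiv.Perm α => p c) ((memS x.1).1 x.2)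
      simp only [Equiv.Perm.mul_apply, wc] at h
      simp [h]
    have h2 : 2 ∣ Nat.card S := by
      rw [← hu'2, ← Subgroup.orderOf_mk u' huS]; exact orderOf_dvd_natCard _
    intro x hx
    have hxS : x ∈ S := (memS x).2 (mul_inv_eq_iff_eq_mul.1 (congrArg Subtype.val hx))
    by_contra hne
    simp only [not_or] at hne
    have : 3 ≤ Nat.card S := by
      rw [Nat.card_eq_fintype_card, ← Finset.card_univ]
      refine le_trans (le_of_eq ?_) (Finset.card_le_card
        (Finset.subset_univ ({1, ⟨u', huS⟩, ⟨x, hxS⟩} : Finset S)))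
      have hu1' : u' ≠ 1 := fun h => u1 (congrArg Subtype.val h)
      simp [Finset.card_insert_of_notMem, Subtype.ext_iff, Ne.symm hne.1, Ne.symm hne.2, hu1'.symm,
        Subtype.val_injective.ne_iff]
    omega
  have hvv : ∀ y : Equiv.Perm α, v * (v * y * v⁻¹) * v⁻¹ = y := fun y => by
    calc v * (v * y * v⁻¹) * v⁻¹ = (v * v) * y * (v * v)⁻¹ := by group
      _ = y := by rw [v2]; group
  have hKc := card_two_or_eight u' hu'2 huniq' θ σ (fun x => Subtype.ext (hvv x.1))
    (fun x => Subtype.ext (by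
      show w * (w * (w * x.1 * w⁻¹) * w⁻¹) * w⁻¹ = x.1
      calc _ = (w * w * w) * x.1 * (w * w * w)⁻¹ := by group
        _ = x.1 := by rw [w3]; group))
    (fun x => Subtype.ext (by
      show v * (w * (v * x.1 * v⁻¹) * w⁻¹) * v⁻¹ = w * (w * x.1 * w⁻¹) * w⁻¹
      calc _ = (v * w * v) * x.1 * (v * w * v)⁻¹ := by group
        _ = _ := by rw [vwv]; group))
    hfθ hfσ
  have hcard : Nat.card (fix3 G a b e) = Fintype.card α - 3 := by
    have e3 : ({a, b, e} : Finset α).card = 3 := by simp [hab, hae, hbe]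
    rw [← e3, ← Finset.card_compl, ← Nat.card_eq_finsetCard]
    refine Nat.card_congr (Equiv.ofBijective
      (fun g => ⟨g.1 c, by simp [hkK g]⟩) ⟨fun g h eq => hdet g h (congrArg Subtype.val eq), ?_⟩)
    rintro ⟨y, hy⟩
    simp only [Finset.mem_compl, Finset.mem_insert, Finset.mem_singleton, not_or] at hy
    obtain ⟨g, hg, ga, gb, ge, gc⟩ := hG.tr4 n2 (a' := a) (b' := b) (c' := e) (d' := y)
      (by simp [hab, hae, hbe, Ne.symm hy.1, Ne.symm hy.2.1, Ne.symm hy.2.2])
    exact ⟨⟨g, hg, ga, gb, ge⟩, Subtype.ext gc⟩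
  omega

theorem degree_four (hG : Sharp G 4) (h4 : 4 ≤ Fintype.card α) :
    Fintype.card α = 4 ∨ Fintype.card α = 5 ∨ Fintype.card α = 6 ∨ Fintype.card α = 11 := by
  by_cases h : ∃ g ∈ G, g * g = 1 ∧ g ≠ 1 ∧ 2 < (Finset.univ.filter fun x => g x = x).card
  · obtain ⟨u, hu, u2, u1, h3⟩ := h
    obtain ⟨a, b, e, ha, hb, he, hab, hae, hbe⟩ := Finset.two_lt_card_iff.1 h3
    simp only [Finset.mem_filter, Finset.mem_univ, true_and] at ha hb he
    have := degree_of_three hG hu u2 u1 hab hae hbe ha hb he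
    omega
  · simp only [not_exists, not_and, not_lt] at h
    have := degree_le_six hG h
    omega

omit [Fintype α] in
/-- The stabilizer of a point, acting on the other points. -/
def pointStab (G : Subgroup (Equiv.Perm α)) (a : α) : Subgroup (Equiv.Perm {x : α // x ≠ a}) where
  carrier := {p | ∃ g ∈ G, g a = a ∧ ∀ x, (p x : α) = g x}
  one_mem' := ⟨1, G.one_mem, rfl, fun _ => rfl⟩
  mul_mem' := by
    rintro p q ⟨g, hg, ga, hp⟩ ⟨h, hh, ha, hq⟩
    exact ⟨g * h, G.mul_mem hg hh, by simp [ga, ha], fun x => by simp [hp, hq]⟩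
  inv_mem' := by
    rintro p ⟨g, hg, ga, hp⟩
    refine ⟨g⁻¹, G.inv_mem hg, Equiv.Perm.inv_eq_iff_eq.2 ga.symm, fun x => ?_⟩
    rw [eq_comm, Equiv.Perm.inv_eq_iff_eq, ← hp, ← Equiv.Perm.mul_apply, mul_inv_cancel,
      Equiv.Perm.one_apply]

theorem Sharp.pointStab {k : ℕ} (hG : Sharp G (k + 1)) (a : α) : Sharp (pointStab G a) k where
  trans f g hf hg := by
    have inj : ∀ f : Fin k → {x : α // x ≠ a}, Function.Injective f →
        Function.Injective (Fin.cons a (fun i => (f i).1) : Fin (k + 1) → α) := fun f hf =>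
      Fin.cons_injective_iff.2 ⟨fun ⟨i, hi⟩ => (f i).2 hi, fun i j e => hf (Subtype.ext e)⟩
    obtain ⟨h, hh, e⟩ := hG.trans _ _ (inj f hf) (inj g hg)
    have ha : h a = a := by simpa using e 0
    have hst : ∀ x, h x ≠ a ↔ x ≠ a := fun x =>
      ⟨fun hx e => hx (by rw [e, ha]), fun hx e => hx (h.injective (e.trans ha.symm))⟩
    refine ⟨h.subtypePerm (p := fun x => x ≠ a) (fun x => hst x), ⟨h, hh, ha, fun x => rfl⟩,
      fun i => Subtype.ext ?_⟩
    simpa using e i.succ
  sharp := by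
    rintro p ⟨g, hg, ga, hp⟩ f hf e
    have := hG.sharp g hg (Fin.cons a (fun i => (f i).1))
      (Fin.cons_injective_iff.2 ⟨fun ⟨i, hi⟩ => (f i).2 hi, fun i j e => hf (Subtype.ext e)⟩)
      (fun i => by
        refine Fin.cases ?_ (fun j => ?_) i
        · simpa using ga
        · simp only [Fin.cons_succ]; rw [← hp, e])
    exact Equiv.ext fun x => Subtype.ext (by simp [hp, this])

theorem degree_five (hG : Sharp G 5) (h5 : 5 ≤ Fintype.card α) :
    Fintype.card α = 5 ∨ Fintype.card α = 6 ∨ Fintype.card α = 7 ∨ Fintype.card α = 12 := by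
  obtain ⟨a⟩ : Nonempty α := Fintype.card_pos_iff.1 (by omega)
  have hc : Fintype.card {x : α // x ≠ a} = Fintype.card α - 1 := by simp [Fintype.card_subtype_compl]
  have := degree_four (hG.pointStab a) (by omega)
  omega

theorem Sharp.natCard {k : ℕ} (hG : Sharp G k) (hk : k ≤ Fintype.card α) :
    Nat.card G = (Fintype.card α).descFactorial k := by
  obtain ⟨x⟩ : Nonempty (Fin k ↪ α) := Function.Embedding.nonempty_of_card_le (by simpa using hk)
  rw [show (Fintype.card α).descFactorial k = Nat.card (Fin k ↪ α) by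
    rw [Nat.card_eq_fintype_card, Fintype.card_embedding_eq, Fintype.card_fin]]
  refine Nat.card_congr (Equiv.ofBijective
    (fun g : G => x.trans (g.1 : α ≃ α).toEmbedding) ⟨fun g h e => ?_, fun y => ?_⟩)
  · have key : (h⁻¹ * g).1 = 1 := hG.sharp _ (h⁻¹ * g).2 x x.injective (fun i => by
      have := congrArg (fun t : Fin k ↪ α => t i) e
      simp only [Function.Embedding.trans_apply, Equiv.coe_toEmbedding] at this
      simp [this])
    exact (inv_mul_eq_one.1 (Subtype.ext key)).symm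
  · obtain ⟨g, hg, e⟩ := hG.trans x y x.injective y.injective
    exact ⟨⟨g, hg⟩, Function.Embedding.ext e⟩

theorem no_six_thirteen (hG : Sharp G 6) : Fintype.card α ≠ 13 := by
  intro hn
  haveI : Fact (Nat.Prime 13) := ⟨by norm_num⟩
  have hcard : Nat.card G = 1235520 := by
    rw [hG.natCard (by omega), hn]; decide
  obtain ⟨P⟩ : Nonempty (Sylow 13 G) := inferInstance
  set N := Subgroup.normalizer ((P : Subgroup G) : Set G) with hN
  have hP : Nat.card (P : Subgroup G) = 13 := by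
    obtain ⟨i, hi⟩ := IsPGroup.iff_card.1 P.isPGroup'
    have hd := Subgroup.card_subgroup_dvd_card (P : Subgroup G)
    have h1 := P.dvd_card_of_dvd_card (by rw [hcard]; norm_num)
    rw [hi, hcard] at hd
    rw [hi] at h1 ⊢
    have : i < 2 := by
      by_contra hc
      have h2 := (pow_dvd_pow 13 (not_lt.1 hc)).trans hd
      norm_num at h2
    interval_cases i <;> simp_all
  haveI hcyc : IsCyclic (P : Subgroup G) := isCyclic_of_prime_card hP
  obtain ⟨σ, hσ⟩ := IsCyclic.exists_generator (α := (P : Subgroup G))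
  have hoσ : orderOf (σ : G).1 = 13 := by
    rw [Subgroup.orderOf_coe, Subgroup.orderOf_coe, orderOf_eq_card_of_forall_mem_zpowers hσ, hP]
  have hcyl : (σ : G).1.IsCycle :=
    Equiv.Perm.isCycle_of_prime_order'' (by rw [hn]; norm_num) (by rw [hn]; exact hoσ)
  have hsupp : (σ : G).1.support = Finset.univ :=
    Finset.eq_univ_of_card _ (by rw [← hcyl.orderOf, hoσ, hn])
  have hcent : Subgroup.centralizer ((P : Subgroup G) : Set G) ≤ (P : Subgroup G) := by
    intro g hg
    have hgσ : Commute (σ : G).1 g.1 :=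
      congrArg Subtype.val (Subgroup.mem_centralizer_iff.1 hg σ.1 σ.2)
    obtain ⟨x₀, hx₀⟩ : ∃ x₀, x₀ ∈ (σ : G).1.support := by
      rw [hsupp]; exact ⟨Classical.choice (Fintype.card_pos_iff.1 (by omega)), Finset.mem_univ _⟩
    have hall : ∀ x, (σ : G).1 x ≠ x := fun x => by
      rw [← Equiv.Perm.mem_support, hsupp]; exact Finset.mem_univ x
    obtain ⟨i, hi⟩ := hcyl.sameCycle (hall x₀) (hall (g.1 x₀))
    have : g.1 = (σ : G).1 ^ i := by
      ext x
      obtain ⟨j, hj⟩ := hcyl.sameCycle (hall x₀) (hall x)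
      rw [← hj, ← Equiv.Perm.mul_apply, ← (hgσ.zpow_left j).eq, Equiv.Perm.mul_apply, ← hi,
        ← Equiv.Perm.mul_apply, ← Equiv.Perm.mul_apply, ← zpow_add, ← zpow_add, add_comm]
    have hg' : g = (σ : G) ^ i := Subtype.ext (by rw [this]; simp)
    rw [hg']; exact Subgroup.zpow_mem _ σ.2 i
  obtain ⟨j, hj, hj12⟩ : ∃ j, Nat.card N = 13 * j ∧ j ∣ 12 := by
    set φ := (P : Subgroup G).normalizerMonoidHom with hφ
    refine ⟨Nat.card φ.range, ?_, ?_⟩
    · rw [Subgroup.card_eq_card_quotient_mul_card_subgroup φ.ker,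
        Nat.card_congr (QuotientGroup.quotientKerEquivRange φ).toEquiv, mul_comm]
      congr 1
      have hker : φ.ker = (P : Subgroup G).subgroupOf N := by
        rw [hφ, Subgroup.normalizerMonoidHom_ker]
        ext x
        simp only [Subgroup.mem_subgroupOf]
        refine ⟨fun h => hcent h, fun h => Subgroup.mem_centralizer_iff.2 fun y hy => ?_⟩
        obtain ⟨i, hi⟩ := hσ ⟨y, hy⟩
        obtain ⟨j, hj⟩ := hσ ⟨x.1, h⟩
        have hc : Commute (⟨y, hy⟩ : (P : Subgroup G)) ⟨x.1, h⟩ := by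
          rw [← hi, ← hj]; exact Commute.zpow_zpow_self σ i j
        exact congrArg Subtype.val hc.eq
      rw [hker, Nat.card_congr (Subgroup.subgroupOfEquivOfLe Subgroup.le_normalizer).toEquiv, hP]
    · have h := Subgroup.card_subgroup_dvd_card φ.range
      rwa [IsCyclic.card_mulAut, hP, Nat.totient_prime (by norm_num)] at h
  have hmod := card_sylow_modEq_one (p := 13) (G := G)
  have hidx : Nat.card N * Nat.card (Sylow 13 G) = 1235520 := by
    rw [Sylow.card_eq_index_normalizer P]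
    exact (Subgroup.card_mul_index N).trans hcard
  rw [hj] at hidx
  have h95 : j * Nat.card (Sylow 13 G) = 95040 := by nlinarith
  have hj' : j ≤ 12 := Nat.le_of_dvd (by norm_num) hj12
  have hm : Nat.card (Sylow 13 G) % 13 = 1 := hmod
  have := Nat.mul_mod j (Nat.card (Sylow 13 G)) 13
  rw [h95, hm] at this
  interval_cases j <;> simp_all

theorem degree_large : ∀ (k : ℕ), 6 ≤ k → ∀ {β : Type _} [Fintype β] [DecidableEq β]
    (G : Subgroup (Equiv.Perm β)), Sharp G k → k ≤ Fintype.card β →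
    Fintype.card β = k ∨ Fintype.card β = k + 1 ∨ Fintype.card β = k + 2 := by
  intro k hk
  induction k, hk using Nat.le_induction with
  | base =>
    intro β _ _ G hG hn
    obtain ⟨a⟩ : Nonempty β := Fintype.card_pos_iff.1 (by omega)
    have hc : Fintype.card {x : β // x ≠ a} = Fintype.card β - 1 := by
      simp [Fintype.card_subtype_compl]
    have := degree_five (hG.pointStab a) (by omega)
    have := no_six_thirteen hG
    omega
  | succ k hk ih =>
    intro β _ _ G hG hn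
    obtain ⟨a⟩ : Nonempty β := Fintype.card_pos_iff.1 (by omega)
    have hc : Fintype.card {x : β // x ≠ a} = Fintype.card β - 1 := by
      simp [Fintype.card_subtype_compl]
    have := ih _ (hG.pointStab a) (by omega)
    omega

end Cfsg.Agent.Jordan
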